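import Groth.Agent.RpushLib.BCMap
import Mathlib.AlgebraicGeometry.Morphisms.Etale
import Mathlib.AlgebraicGeometry.Morphisms.Finite

/-!
# The counit of `p^* ⊣ p_*` is split for affine morphisms with clopen diagonal
-/

set_option autoImplicit false
set_option backward.isDefEq.respectTransparency false
set_option backward.isDefEq.respectTransparency.types false
set_option linter.style.haveILetI false

universe u

open CategoryTheory CategoryTheory.Limits AlgebraicGeometry TopologicalSpace Opposite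

noncomputable section

namespace SplitCounitLib

section Clopen

variable {Z P : Scheme.{u}} (i : Z ⟶ P) [IsOpenImmersion i] (N : P.Modules)

/-- The part of `W` outside of the image of `i`, when the image is closed. -/
def outO (hcl : IsClosed (Set.range i)) (W : P.Opens) : P.Opens :=
  W ⊓ ⟨(Set.range i)ᶜ, hcl.isOpen_compl⟩

theorem mem_imgO {W : P.Opens} {z : P} : z ∈ i ''ᵁ (i ⁻¹ᵁ W) ↔ z ∈ Set.range i ∧ z ∈ W := by
  constructor
  · rintro ⟨t, ht, rfl⟩
    exact ⟨⟨t, rfl⟩, ht⟩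
  · rintro ⟨⟨t, rfl⟩, ht⟩
    exact ⟨t, ht, rfl⟩

variable (hcl : IsClosed (Set.range i))

theorem cover_clopen (W : P.Opens) :
    W ≤ ⨆ b : Bool, (cond b (i ''ᵁ (i ⁻¹ᵁ W)) (outO i hcl W)) := by
  intro z hz
  rw [Opens.mem_iSup]
  by_cases h : z ∈ Set.range i
  · exact ⟨true, (mem_imgO i).mpr ⟨h, hz⟩⟩
  · exact ⟨false, ⟨hz, h⟩⟩

theorem ext_clopen {W : P.Opens} {a b : Γ(N, W)}
    (h1 : N.presheaf.map (homOfLE (i.image_preimage_le W)).op a =
      N.presheaf.map (homOfLE (i.image_preimage_le W)).op b)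
    (h0 : N.presheaf.map (homOfLE (inf_le_left : outO i hcl W ≤ W)).op a =
      N.presheaf.map (homOfLE (inf_le_left : outO i hcl W ≤ W)).op b) : a = b := by
  let F : TopCat.Sheaf Ab P := ⟨N.presheaf, N.isSheaf⟩
  refine F.eq_of_locally_eq' (fun b : Bool => cond b (i ''ᵁ (i ⁻¹ᵁ W)) (outO i hcl W)) W
    (fun b => homOfLE (by cases b; exacts [inf_le_left, i.image_preimage_le W]))
    (cover_clopen i hcl W) a b ?_
  intro b
  cases b
  · exact h0
  · exact h1

theorem exists_ext (W : P.Opens) (x : Γ(N, i ''ᵁ (i ⁻¹ᵁ W))) :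
    ∃ y : Γ(N, W), N.presheaf.map (homOfLE (i.image_preimage_le W)).op y = x ∧
      N.presheaf.map (homOfLE (inf_le_left : outO i hcl W ≤ W)).op y = 0 := by
  let F : TopCat.Sheaf Ab P := ⟨N.presheaf, N.isSheaf⟩
  have hbot : ∀ O : P.Opens, O ≤ i ''ᵁ (i ⁻¹ᵁ W) → O ≤ outO i hcl W →
      ∀ a b : Γ(N, O), a = b := by
    intro O h1 h0 a b
    refine F.eq_of_locally_eq' (fun e : PEmpty.{u+1} => nomatch e) O (fun e => nomatch e) ?_ a b
      (fun e => nomatch e)
    intro z hz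
    exact absurd ((mem_imgO i).mp (h1 hz)).1 (h0 hz).2
  let sf : ∀ b : Bool, Γ(N, cond b (i ''ᵁ (i ⁻¹ᵁ W)) (outO i hcl W)) := fun b =>
    match b with
    | true => x
    | false => 0
  have hc : TopCat.Presheaf.IsCompatible F.obj
      (fun b : Bool => cond b (i ''ᵁ (i ⁻¹ᵁ W)) (outO i hcl W)) sf := by
    intro b b'
    rcases b with _ | _ <;> rcases b' with _ | _
    · rfl
    · exact hbot _ inf_le_right inf_le_left _ _
    · exact hbot _ inf_le_left inf_le_right _ _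
    · rfl
  obtain ⟨y, hy, -⟩ := F.existsUnique_gluing' (fun b : Bool => cond b (i ''ᵁ (i ⁻¹ᵁ W)) (outO i hcl W))
    W (fun b => homOfLE (by cases b; exacts [inf_le_left, i.image_preimage_le W]))
    (cover_clopen i hcl W) sf hc
  exact ⟨y, hy true, hy false⟩

/-- Extension by zero. -/
def ext0 (W : P.Opens) (x : Γ(N, i ''ᵁ (i ⁻¹ᵁ W))) : Γ(N, W) := (exists_ext i N hcl W x).choose

theorem ext0_img (W : P.Opens) (x : Γ(N, i ''ᵁ (i ⁻¹ᵁ W))) :
    N.presheaf.map (homOfLE (i.image_preimage_le W)).op (ext0 i N hcl W x) = x :=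
  (exists_ext i N hcl W x).choose_spec.1

theorem ext0_out (W : P.Opens) (x : Γ(N, i ''ᵁ (i ⁻¹ᵁ W))) :
    N.presheaf.map (homOfLE (inf_le_left : outO i hcl W ≤ W)).op (ext0 i N hcl W x) = 0 :=
  (exists_ext i N hcl W x).choose_spec.2

/-- The scalar action on the sections of `i_* i^* N`. -/
theorem smul_eq (W : P.Opens) (r : Γ(P, W))
    (x : Γ((Scheme.Modules.pushforward i).obj ((Scheme.Modules.restrictFunctor i).obj N), W)) :
    (r • x : Γ((Scheme.Modules.pushforward i).obj ((Scheme.Modules.restrictFunctor i).obj N), W)) =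
      (show Γ(N, i ''ᵁ (i ⁻¹ᵁ W)) from P.presheaf.map (homOfLE (i.image_preimage_le W)).op r •
        (show Γ(N, i ''ᵁ (i ⁻¹ᵁ W)) from x)) := by
  have h : (i.appIso (i ⁻¹ᵁ W)).inv (i.app W r) =
      P.presheaf.map (homOfLE (i.image_preimage_le W)).op r :=
    congr($(i.app_appIso_inv W).hom r)
  rw [← h]
  rfl

theorem img_mono {W' W : P.Opens} (h : W' ≤ W) : i ''ᵁ (i ⁻¹ᵁ W') ≤ i ''ᵁ (i ⁻¹ᵁ W) := fun z hz =>
  (mem_imgO i).mpr ⟨((mem_imgO i).mp hz).1, h ((mem_imgO i).mp hz).2⟩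

/-- The splitting of the unit, as a map of abelian presheaves. -/
def secHom (W : P.Opens) :
    Γ((Scheme.Modules.pushforward i).obj ((Scheme.Modules.restrictFunctor i).obj N), W) →+ Γ(N, W) where
  toFun x := ext0 i N hcl W x
  map_zero' := by
    refine ext_clopen i N hcl ?_ ?_
    · rw [ext0_img, map_zero]
    · rw [ext0_out, map_zero]
  map_add' x y := by
    refine ext_clopen i N hcl ?_ ?_
    · rw [map_add, ext0_img, ext0_img, ext0_img]
    · rw [map_add, ext0_out, ext0_out, ext0_out, add_zero]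

theorem secHom_nat {W' W : P.Opens} (h : W' ≤ W) (x : Γ(N, i ''ᵁ (i ⁻¹ᵁ W))) :
    ext0 i N hcl W' (N.presheaf.map (homOfLE (img_mono i h)).op x) =
      N.presheaf.map (homOfLE h).op (ext0 i N hcl W x) := by
  have hout : outO i hcl W' ≤ outO i hcl W := inf_le_inf_right _ h
  refine ext_clopen i N hcl ?_ ?_
  · rw [ext0_img]
    conv_lhs => rw [← ext0_img i N hcl W x]
    rw [QCohLib.map_map', QCohLib.map_map']
    exact congrArg (fun j : i ''ᵁ (i ⁻¹ᵁ W') ⟶ W => N.presheaf.map j.op (ext0 i N hcl W x))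
      (Subsingleton.elim _ _)
  · rw [ext0_out, QCohLib.map_map']
    have e : homOfLE (inf_le_left : outO i hcl W' ≤ W') ≫ homOfLE h =
        homOfLE hout ≫ homOfLE (inf_le_left : outO i hcl W ≤ W) := Subsingleton.elim _ _
    rw [e, ← QCohLib.map_map']
    exact ((congrArg _ (ext0_out i N hcl W x)).trans (map_zero _)).symm

theorem secHom_smul (W : P.Opens) (r : Γ(P, W))
    (x : Γ((Scheme.Modules.pushforward i).obj ((Scheme.Modules.restrictFunctor i).obj N), W)) :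
    secHom i N hcl W (r • x) = r • secHom i N hcl W x := by
  refine ext_clopen i N hcl ?_ ?_
  · refine (ext0_img i N hcl W _).trans ?_
    rw [Scheme.Modules.map_smul, smul_eq]
    exact congrArg _ (ext0_img i N hcl W x).symm
  · refine (ext0_out i N hcl W _).trans ?_
    rw [Scheme.Modules.map_smul]
    exact ((congrArg _ (ext0_out i N hcl W x)).trans (smul_zero _)).symm

include hcl in
/-- For an open immersion with closed image the unit `N ⟶ i_* i^* N` is a split epimorphism. -/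
theorem isSplitEpi_unit : IsSplitEpi ((Scheme.Modules.restrictAdjunction i).unit.app N) := by
  let A := (Scheme.Modules.pushforward i).obj ((Scheme.Modules.restrictFunctor i).obj N)
  let φ : A.presheaf ⟶ N.presheaf :=
    { app := fun W => AddCommGrpCat.ofHom (secHom i N hcl W.unop)
      naturality := fun W W' j => by
        ext x
        refine Eq.trans ?_ (secHom_nat i N hcl (W := W.unop) (W' := W'.unop) (leOfHom j.unop) x)
        refine congrArg (ext0 i N hcl W'.unop) ?_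
        exact congrArg (fun k : i ''ᵁ (i ⁻¹ᵁ W'.unop) ⟶ i ''ᵁ (i ⁻¹ᵁ W.unop) => N.presheaf.map k.op x)
          (Subsingleton.elim _ _) }
  let s : A ⟶ N := ⟨PresheafOfModules.homMk (M₁ := A.val) (M₂ := N.val) φ
    fun W r x => secHom_smul i N hcl W.unop r x⟩
  refine IsSplitEpi.mk' ⟨s, ?_⟩
  refine Scheme.Modules.hom_ext _ _ fun W => ?_
  ext x
  exact ext0_img i N hcl W x

end Clopen

section Counit

variable {X X' P : Scheme.{u}} {p : X' ⟶ X} {q₁ q₂ : P ⟶ X'} (δ : X' ⟶ P) [IsOpenImmersion δ]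

/-- `δ_* ⋙ q_* ≅ 𝟭` when `δ ≫ q = 𝟙`. -/
def retrIso (q : P ⟶ X') (hq : δ ≫ q = 𝟙 X') :
    Scheme.Modules.pushforward δ ⋙ Scheme.Modules.pushforward q ≅ 𝟭 X'.Modules :=
  Scheme.Modules.pushforwardComp δ q ≪≫ Scheme.Modules.pushforwardCongr hq ≪≫
    Scheme.Modules.pushforwardId X'

theorem retrIso_apply (q : P ⟶ X') (hq : δ ≫ q = 𝟙 X') (V : X'.Modules) (U : X'.Opens)
    (h : U ≤ δ ⁻¹ᵁ q ⁻¹ᵁ U) (z : Γ(V, δ ⁻¹ᵁ q ⁻¹ᵁ U)) :
    ((retrIso δ q hq).hom.app V).app U z = V.presheaf.map (homOfLE h).op z := by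
  change V.presheaf.map (eqToHom (show U = δ ⁻¹ᵁ q ⁻¹ᵁ U by rw [← Scheme.Hom.comp_preimage, hq]; rfl)).op z = _
  exact congrArg (fun k : U ⟶ δ ⁻¹ᵁ q ⁻¹ᵁ U => V.presheaf.map k.op z) (Subsingleton.elim _ _)

/-- The counit of `p^* ⊣ p_*` is a split epimorphism for affine `p` with clopen diagonal. -/
theorem isSplitEpi_counit [IsAffineHom p] (H : IsPullback q₁ q₂ p p) (hδ₁ : δ ≫ q₁ = 𝟙 X')
    (hδ₂ : δ ≫ q₂ = 𝟙 X') (hcl : IsClosed (Set.range δ)) (V : X'.Modules) [Coh.IsQCoh V] :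
    IsSplitEpi ((Scheme.Modules.pullbackPushforwardAdjunction p).counit.app V) := by
  haveI : Coh.IsQCoh ((Scheme.Modules.pushforward p).obj V) := QCohLib.isQCoh_pushforward p V
  haveI := RpushLib.isIso_bcMap_of H V fun US UT hUS hUT hg =>
    RpushLib.bijective_bc_affine H V hUS hUT hg
  let adj := Scheme.Modules.pullbackPushforwardAdjunction q₁
  let L := Scheme.Modules.pullback q₁ ⋙ Scheme.Modules.restrictFunctor δ
  let adjc : L ⊣ Scheme.Modules.pushforward δ ⋙ Scheme.Modules.pushforward q₁ :=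
    adj.comp (Scheme.Modules.restrictAdjunction δ)
  let φ := retrIso δ q₁ hδ₁
  let adj' : L ⊣ 𝟭 X'.Modules := adjc.ofNatIsoRight φ
  let e : L.obj V ⟶ V := adj'.counit.app V
  haveI he : IsIso e := inferInstanceAs (IsIso (adj'.counit.app V))
  let N := (Scheme.Modules.pullback q₁).obj V
  let d : N ⟶ (Scheme.Modules.pushforward δ).obj V :=
    (Scheme.Modules.restrictAdjunction δ).unit.app N ≫ (Scheme.Modules.pushforward δ).map e
  haveI : IsSplitEpi d := by
    haveI := isSplitEpi_unit δ N hcl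
    exact inferInstanceAs (IsSplitEpi (_ ≫ _))
  have key : adj.unit.app V ≫ (Scheme.Modules.pushforward q₁).map d ≫ φ.hom.app V = 𝟙 V := by
    have h1 := adj'.right_triangle_components V
    have h2 : adj'.unit.app V = adjc.unit.app V ≫ φ.hom.app (L.obj V) := by
      simp [adj', Adjunction.ofNatIsoRight]
    have h3 : adjc.unit.app V = adj.unit.app V ≫
        (Scheme.Modules.pushforward q₁).map ((Scheme.Modules.restrictAdjunction δ).unit.app N) := by
      simp [adjc, N]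
    have h4 := φ.hom.naturality e
    change adj'.unit.app V ≫ e = 𝟙 V at h1
    rw [h2, h3, Category.assoc, Category.assoc] at h1
    simp only [Functor.id_map, Functor.comp_map] at h4
    rw [← h4] at h1
    simp only [d, Functor.map_comp, Category.assoc]
    exact h1
  let m : (Scheme.Modules.pushforward q₂).obj N ⟶ V :=
    (Scheme.Modules.pushforward q₂).map d ≫ (retrIso δ q₂ hδ₂).hom.app V
  haveI : IsSplitEpi m := inferInstanceAs (IsSplitEpi (_ ≫ _))
  have hm : RpushLib.bcAdj H.w V ≫ (Scheme.Modules.pushforward p).map m =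
      𝟙 ((Scheme.Modules.pushforward p).obj V) := by
    refine Scheme.Modules.hom_ext _ _ fun U => ?_
    ext x
    have hsq : q₂ ⁻¹ᵁ p ⁻¹ᵁ U = q₁ ⁻¹ᵁ p ⁻¹ᵁ U := by
      rw [← Scheme.Hom.comp_preimage, ← H.w, Scheme.Hom.comp_preimage]
    have hle₁ : p ⁻¹ᵁ U ≤ δ ⁻¹ᵁ q₁ ⁻¹ᵁ p ⁻¹ᵁ U := by
      rw [← Scheme.Hom.comp_preimage, hδ₁]; exact le_rfl
    have hle₂ : p ⁻¹ᵁ U ≤ δ ⁻¹ᵁ q₂ ⁻¹ᵁ p ⁻¹ᵁ U := by
      rw [← Scheme.Hom.comp_preimage, hδ₂]; exact le_rfl
    have hk := congr($(congrArg (fun f : V ⟶ V => f.app (p ⁻¹ᵁ U)) key).hom x)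
    change (φ.hom.app V).app (p ⁻¹ᵁ U) (d.app (q₁ ⁻¹ᵁ p ⁻¹ᵁ U)
      ((adj.unit.app V).app (p ⁻¹ᵁ U) x)) = x at hk
    rw [retrIso_apply δ q₁ hδ₁ V _ hle₁] at hk
    change ((retrIso δ q₂ hδ₂).hom.app V).app (p ⁻¹ᵁ U) (d.app (q₂ ⁻¹ᵁ p ⁻¹ᵁ U)
      (N.presheaf.map (eqToHom hsq).op ((adj.unit.app V).app (p ⁻¹ᵁ U) x))) = x
    rw [retrIso_apply δ q₂ hδ₂ V _ hle₂, QCohLib.app_map]
    refine Eq.trans ?_ hk
    generalize d.app (q₁ ⁻¹ᵁ p ⁻¹ᵁ U) ((adj.unit.app V).app (p ⁻¹ᵁ U) x) = z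
    change V.presheaf.map (homOfLE hle₂).op (V.presheaf.map ((Opens.map δ.base).map (eqToHom hsq)).op z) = _
    rw [QCohLib.map_map']
    exact congrArg (fun k : p ⁻¹ᵁ U ⟶ δ ⁻¹ᵁ q₁ ⁻¹ᵁ p ⁻¹ᵁ U => V.presheaf.map k.op z)
      (Subsingleton.elim _ _)
  have hc : ((Scheme.Modules.pullbackPushforwardAdjunction p).homEquiv _ _).symm
      (RpushLib.bcAdj H.w V) ≫ m = (Scheme.Modules.pullbackPushforwardAdjunction p).counit.app V := by
    rw [← Adjunction.homEquiv_naturality_right_symm, hm]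
    simp [Adjunction.homEquiv_counit]
  rw [← hc]
  exact inferInstanceAs (IsSplitEpi (_ ≫ _))

end Counit

end SplitCounitLib
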